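import Groth.Agent.H11Tilde.QCoh
import Mathlib

/-!
# The functions `a / f ^ k` on `D₊(f)` and dehomogenisation
-/

set_option autoImplicit false

noncomputable section

universe u

open CategoryTheory AlgebraicGeometry TopologicalSpace Opposite Polynomial

namespace Groth.Agent.H11Tilde

variable {A σA : Type u} [CommRing A] [SetLike σA A] [AddSubgroupClass σA A] (𝒜 : ℕ → σA) [GradedRing 𝒜]

theorem fval_ext {U : (Proj 𝒜).Opens} {r s : Γ(Proj 𝒜, U)} (h : ∀ x : U, fval 𝒜 r x = fval 𝒜 s x) : r = s := by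
  apply Subtype.ext
  funext x
  exact HomogeneousLocalization.val_injective _ (h x)

theorem fval_add {U : (Proj 𝒜).Opens} (r s : Γ(Proj 𝒜, U)) (x : U) :
    fval 𝒜 (r + s) x = fval 𝒜 r x + fval 𝒜 s x := HomogeneousLocalization.val_add _ _

theorem fval_mul {U : (Proj 𝒜).Opens} (r s : Γ(Proj 𝒜, U)) (x : U) :
    fval 𝒜 (r * s) x = fval 𝒜 r x * fval 𝒜 s x := HomogeneousLocalization.val_mul _ _

theorem fval_one {U : (Proj 𝒜).Opens} (x : U) : fval 𝒜 (1 : Γ(Proj 𝒜, U)) x = 1 := HomogeneousLocalization.val_one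

theorem fval_zero {U : (Proj 𝒜).Opens} (x : U) : fval 𝒜 (0 : Γ(Proj 𝒜, U)) x = 0 := HomogeneousLocalization.val_zero

variable {f : A} (hf : f ∈ 𝒜 1)

/-- `a / f ^ k` on `D₊(f)`. -/
def ratio {k : ℕ} {a : A} (ha : a ∈ 𝒜 k) : Γ(Proj 𝒜, Proj.basicOpen 𝒜 f) :=
  Proj.awayToSection 𝒜 f (HomogeneousLocalization.Away.mk 𝒜 hf k a (by simpa using ha))

theorem fval_ratio {k : ℕ} {a : A} (ha : a ∈ 𝒜 k) (x : Proj.basicOpen 𝒜 f) :
    fval 𝒜 (ratio 𝒜 hf ha) x = Localization.mk a ⟨f ^ k, pow_notMem 𝒜 x.2 k⟩ :=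
  fval_awayToSection 𝒜 hf k a (by simpa using ha) x

theorem ratio_add {k : ℕ} {a b : A} (ha : a ∈ 𝒜 k) (hb : b ∈ 𝒜 k) :
    ratio 𝒜 hf (add_mem ha hb) = ratio 𝒜 hf ha + ratio 𝒜 hf hb := by
  refine fval_ext 𝒜 fun x => ?_
  rw [fval_add, fval_ratio, fval_ratio, fval_ratio, Localization.add_mk_self]

theorem ratio_zero {k : ℕ} : ratio 𝒜 hf (zero_mem (𝒜 k)) = 0 := by
  refine fval_ext 𝒜 fun x => ?_
  rw [fval_zero, fval_ratio, Localization.mk_zero]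

theorem ratio_one : ratio 𝒜 hf (SetLike.one_mem_graded 𝒜) = 1 := by
  refine fval_ext 𝒜 fun x => ?_
  rw [fval_one, fval_ratio, ← Localization.mk_one]
  exact Localization.mk_eq_mk_iff.2 (Localization.r_iff_exists.2 ⟨1, by simp⟩)

theorem ratio_mul {k l : ℕ} {a b : A} (ha : a ∈ 𝒜 k) (hb : b ∈ 𝒜 l) :
    ratio 𝒜 hf (SetLike.mul_mem_graded ha hb) = ratio 𝒜 hf ha * ratio 𝒜 hf hb := by
  refine fval_ext 𝒜 fun x => ?_
  rw [fval_mul, fval_ratio, fval_ratio, fval_ratio, Localization.mk_mul]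
  exact Localization.mk_eq_mk_iff.2 (Localization.r_iff_exists.2 ⟨1, by simp [pow_add]⟩)

theorem ratio_pow {k : ℕ} {a : A} (ha : a ∈ 𝒜 k) (n : ℕ) :
    ratio 𝒜 hf (SetLike.pow_mem_graded n ha) = ratio 𝒜 hf ha ^ n := by
  refine fval_ext 𝒜 fun x => ?_
  rw [fval_pow, fval_ratio, fval_ratio, Localization.mk_pow]
  exact Localization.mk_eq_mk_iff.2 (Localization.r_iff_exists.2 ⟨1, by simp [← pow_mul, mul_comm]⟩)

theorem basicOpen_ratio {k : ℕ} {a : A} (ha : a ∈ 𝒜 k) :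
    (Proj 𝒜).basicOpen (ratio 𝒜 hf ha) = Proj.basicOpen 𝒜 (f * a) :=
  basicOpen_eq_of_fval 𝒜 _ fun x _ => fval_ratio 𝒜 hf ha x

/-- `a / g ^ k = (f / g) ^ k * (a / f ^ k)` where both make sense. -/
theorem res_ratio {g : A} (hg : g ∈ 𝒜 1) {k : ℕ} {a : A} (ha : a ∈ 𝒜 k) {V : (Proj 𝒜).Opens}
    (hVf : V ≤ Proj.basicOpen 𝒜 f) (hVg : V ≤ Proj.basicOpen 𝒜 g) :
    (Proj 𝒜).presheaf.map (homOfLE hVg).op (ratio 𝒜 hg ha) =
      (Proj 𝒜).presheaf.map (homOfLE hVg).op (ratio 𝒜 hg hf) ^ k *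
        (Proj 𝒜).presheaf.map (homOfLE hVf).op (ratio 𝒜 hf ha) := by
  refine fval_ext 𝒜 fun x => ?_
  rw [fval_mul, fval_pow, fval_map, fval_map, fval_map, fval_ratio, fval_ratio, fval_ratio, Localization.mk_pow,
    Localization.mk_mul]
  exact Localization.mk_eq_mk_iff.2 (Localization.r_iff_exists.2 ⟨1, by simp [pow_one]; ring⟩)

theorem ratio_self : ratio 𝒜 hf hf = 1 := by
  refine fval_ext 𝒜 fun x => ?_
  rw [fval_one, fval_ratio, ← Localization.mk_one]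
  exact Localization.mk_eq_mk_iff.2 (Localization.r_iff_exists.2 ⟨1, by simp⟩)

/-- The homogeneous piece of degree `k` of dehomogenisation. -/
def dehomPiece (k : ℕ) : 𝒜 k →+ Γ(Proj 𝒜, Proj.basicOpen 𝒜 f)[X] where
  toFun a := monomial k (ratio 𝒜 hf a.2)
  map_zero' := by rw [show ratio 𝒜 hf (0 : 𝒜 k).2 = 0 from ratio_zero 𝒜 hf, map_zero]
  map_add' a b := by rw [show ratio 𝒜 hf (a + b).2 = _ from ratio_add 𝒜 hf a.2 b.2, map_add]

/-- `a ↦ (a / f ^ k) X ^ k` for homogeneous `a` of degree `k`. -/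
def dehom : A →+* Γ(Proj 𝒜, Proj.basicOpen 𝒜 f)[X] :=
  (DirectSum.toSemiring (fun k => dehomPiece 𝒜 hf k)
    (by
      change monomial 0 (ratio 𝒜 hf (SetLike.one_mem_graded 𝒜)) = 1
      rw [ratio_one]; rfl)
    (fun {i j} a b => by
      change monomial (i + j) (ratio 𝒜 hf (SetLike.mul_mem_graded a.2 b.2)) =
        monomial i (ratio 𝒜 hf a.2) * monomial j (ratio 𝒜 hf b.2)
      rw [ratio_mul, monomial_mul_monomial])).comp
    (DirectSum.decomposeRingEquiv 𝒜).toRingHom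

theorem dehom_of_mem {k : ℕ} {a : A} (ha : a ∈ 𝒜 k) : dehom 𝒜 hf a = monomial k (ratio 𝒜 hf ha) := by
  classical
  rw [dehom, RingHom.comp_apply]
  change DirectSum.toSemiring (fun k => dehomPiece 𝒜 hf k) ?h1 ?h2 (DirectSum.decompose 𝒜 a) = _
  · rw [DirectSum.decompose_of_mem 𝒜 ha, DirectSum.toSemiring_of]
    rfl

end Groth.Agent.H11Tilde
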