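import Groth.Agent.H11Tilde.GammaStar.Ratio
import Groth.Agent.H11Tilde.ModLoc

/-!
# The graded module of twisted sections of a module on Proj
-/

set_option autoImplicit false

noncomputable section

universe u

open CategoryTheory AlgebraicGeometry TopologicalSpace Opposite Polynomial

namespace Groth.Agent.H11Tilde

/-- A grading from a projection to each piece. -/
def decompositionOfProj {M τ : Type*} [AddCommGroup M] [SetLike τ M] [AddSubgroupClass τ M] (ℳ : ℕ → τ)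
    (π : ℕ → M →+ M) (hmem : ∀ n x, π n x ∈ ℳ n) (hsame : ∀ n, ∀ x ∈ ℳ n, π n x = x)
    (hne : ∀ n k, n ≠ k → ∀ x ∈ ℳ k, π n x = 0)
    (hfin : ∀ x, ∃ s : Finset ℕ, ∑ n ∈ s, π n x = x) : DirectSum.Decomposition ℳ where
  decompose' x := ∑ n ∈ (hfin x).choose, DirectSum.of (fun i => ℳ i) n ⟨π n x, hmem n x⟩
  left_inv x := by
    simp only [map_sum, DirectSum.coeAddMonoidHom_of]
    exact (hfin x).choose_spec
  right_inv d := by
    classical
    have hπ : ∀ n, π n (DirectSum.coeAddMonoidHom ℳ d) = (d n : M) := by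
      intro n
      induction d using DirectSum.induction_on with
      | zero => simp
      | of k v =>
        rw [DirectSum.coeAddMonoidHom_of]
        rcases eq_or_ne n k with rfl | hnk
        · rw [DirectSum.of_eq_same, hsame n v v.2]
        · rw [DirectSum.of_eq_of_ne (β := fun i => ℳ i) k n v hnk, hne n k hnk v v.2]; rfl
      | add a b ha hb => rw [map_add, map_add, ha, hb]; rfl
    refine DirectSum.ext fun n => Subtype.ext ?_
    rw [DFinsupp.finsetSum_apply, AddSubmonoidClass.coe_finsetSum]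
    by_cases hn : n ∈ (hfin (DirectSum.coeAddMonoidHom ℳ d)).choose
    · rw [Finset.sum_eq_single n]
      · rw [DirectSum.of_eq_same]; exact hπ n
      · intro k _ hk
        rw [DirectSum.of_eq_of_ne (β := fun i => ℳ i) k n _ hk.symm]; rfl
      · exact fun h => absurd hn h
    · rw [Finset.sum_eq_zero fun k hk => by
        rw [DirectSum.of_eq_of_ne (β := fun i => ℳ i) k n _ (fun h => hn (h ▸ hk))]; rfl]
      have h0 := congrArg (π n) (hfin (DirectSum.coeAddMonoidHom ℳ d)).choose_spec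
      rw [map_sum, Finset.sum_eq_zero fun k hk => hne n k (fun h => hn (h ▸ hk)) _ (hmem k _), hπ n] at h0
      exact h0

variable {A σA : Type u} [CommRing A] [SetLike σA A] [AddSubgroupClass σA A] (𝒜 : ℕ → σA) [GradedRing 𝒜]
  {ι : Type u} (f : ι → A) (hf : ∀ i, f i ∈ 𝒜 1) (F : (Proj 𝒜).Modules)

/-- Polynomials with coefficients in the sections on `D₊(f i)`. -/
def Comp (_ : ∀ i, f i ∈ 𝒜 1) (i : ι) : Type u :=
  PolynomialModule Γ(Proj 𝒜, Proj.basicOpen 𝒜 (f i)) Γ(F, Proj.basicOpen 𝒜 (f i))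

instance (i : ι) : AddCommGroup (Comp 𝒜 f F hf i) := by unfold Comp; infer_instance

instance compPolyModule (i : ι) :
    Module Γ(Proj 𝒜, Proj.basicOpen 𝒜 (f i))[X] (Comp 𝒜 f F hf i) := by
  unfold Comp; infer_instance

instance compModule (i : ι) : Module A (Comp 𝒜 f F hf i) :=
  Module.compHom (Comp 𝒜 f F hf i) (dehom 𝒜 (hf i))

variable {hf}

/-- The coefficient of degree `n`. -/
def cf {i : ι} (p : Comp 𝒜 f F hf i) (n : ℕ) : Γ(F, Proj.basicOpen 𝒜 (f i)) :=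
  (show PolynomialModule Γ(Proj 𝒜, Proj.basicOpen 𝒜 (f i)) Γ(F, Proj.basicOpen 𝒜 (f i)) from p).coeff n

theorem cf_ext {i : ι} {p q : Comp 𝒜 f F hf i} (h : ∀ n, cf 𝒜 f F p n = cf 𝒜 f F q n) : p = q :=
  PolynomialModule.coeff_injective (Finsupp.ext h)

theorem cf_add {i : ι} (p q : Comp 𝒜 f F hf i) (n : ℕ) : cf 𝒜 f F (p + q) n = cf 𝒜 f F p n + cf 𝒜 f F q n :=
  rfl

theorem cf_zero {i : ι} (n : ℕ) : cf 𝒜 f F (0 : Comp 𝒜 f F hf i) n = 0 := rfl

/-- The monomial `v X ^ n`. -/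
def mono (hf : ∀ i, f i ∈ 𝒜 1) (i : ι) (n : ℕ) : Γ(F, Proj.basicOpen 𝒜 (f i)) →+ Comp 𝒜 f F hf i where
  toFun v := PolynomialModule.single Γ(Proj 𝒜, Proj.basicOpen 𝒜 (f i)) n v
  map_zero' := PolynomialModule.single_zero n
  map_add' := PolynomialModule.single_add n

theorem cf_mono (i : ι) (n m : ℕ) (v : Γ(F, Proj.basicOpen 𝒜 (f i))) :
    cf 𝒜 f F (mono 𝒜 f F hf i n v) m = if n = m then v else 0 :=
  PolynomialModule.lsingle_apply n v m

theorem cf_monomial_smul {i : ι} (k : ℕ) (r : Γ(Proj 𝒜, Proj.basicOpen 𝒜 (f i))) (p : Comp 𝒜 f F hf i) (n : ℕ) :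
    cf 𝒜 f F (monomial k r • p) n = if k ≤ n then r • cf 𝒜 f F p (n - k) else 0 := by
  refine PolynomialModule.induction_linear
    (p := fun q : Comp 𝒜 f F hf i => cf 𝒜 f F (monomial k r • q) n = if k ≤ n then r • cf 𝒜 f F q (n - k) else 0)
    p ?_ ?_ ?_
  · change cf 𝒜 f F (monomial k r • (0 : Comp 𝒜 f F hf i)) n = if k ≤ n then r • cf 𝒜 f F (0 : Comp 𝒜 f F hf i) (n - k) else 0
    rw [smul_zero, cf_zero, cf_zero, smul_zero, ite_self]
  · intro a b ha hb
    change cf 𝒜 f F (monomial k r • (show Comp 𝒜 f F hf i from a + b)) n = _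
    rw [show monomial k r • (show Comp 𝒜 f F hf i from a + b) =
      monomial k r • (show Comp 𝒜 f F hf i from a) + monomial k r • (show Comp 𝒜 f F hf i from b) from
      smul_add _ _ _, cf_add, ha, hb]
    split_ifs with h
    · exact (smul_add r _ _).symm
    · rw [add_zero]
  · intro m v
    change cf 𝒜 f F (monomial k r • mono 𝒜 f F hf i m v) n = if k ≤ n then r • cf 𝒜 f F (mono 𝒜 f F hf i m v) (n - k) else 0
    rw [show monomial k r • mono 𝒜 f F hf i m v = mono 𝒜 f F hf i (k + m) (r • v) from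
      PolynomialModule.monomial_smul_single k r m v, cf_mono, cf_mono]
    by_cases h : k ≤ n
    · rw [if_pos h]
      by_cases h2 : k + m = n
      · rw [if_pos h2, if_pos (show m = n - k by omega)]
      · rw [if_neg h2, if_neg (show ¬ m = n - k by omega), smul_zero]
    · rw [if_neg h, if_neg (show ¬ k + m = n by omega)]

theorem cf_smul {k : ℕ} {a : A} (ha : a ∈ 𝒜 k) {i : ι} (p : Comp 𝒜 f F hf i) (n : ℕ) :
    cf 𝒜 f F (a • p) n = if k ≤ n then ratio 𝒜 (hf i) ha • cf 𝒜 f F p (n - k) else 0 := by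
  change cf 𝒜 f F (dehom 𝒜 (hf i) a • p) n = _
  rw [dehom_of_mem 𝒜 (hf i) ha, cf_monomial_smul]

variable (hf)

/-- Families `s i` with `s j = (f i / f j) ^ n • s i` on overlaps. -/
def IsTwistSec (n : ℕ) (v : ∀ i, Γ(F, Proj.basicOpen 𝒜 (f i))) : Prop :=
  ∀ i j, F.presheaf.map (homOfLE (inf_le_right :
      Proj.basicOpen 𝒜 (f i) ⊓ Proj.basicOpen 𝒜 (f j) ≤ Proj.basicOpen 𝒜 (f j))).op (v j) =
    (Proj 𝒜).presheaf.map (homOfLE (inf_le_right :
      Proj.basicOpen 𝒜 (f i) ⊓ Proj.basicOpen 𝒜 (f j) ≤ Proj.basicOpen 𝒜 (f j))).op (ratio 𝒜 (hf j) (hf i)) ^ n •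
      F.presheaf.map (homOfLE (inf_le_left :
        Proj.basicOpen 𝒜 (f i) ⊓ Proj.basicOpen 𝒜 (f j) ≤ Proj.basicOpen 𝒜 (f i))).op (v i)

theorem isTwistSec_zero (n : ℕ) : IsTwistSec 𝒜 f hf F n fun _ => 0 := fun i j => by simp

variable {hf F} in
theorem IsTwistSec.add {n : ℕ} {v w : ∀ i, Γ(F, Proj.basicOpen 𝒜 (f i))} (hv : IsTwistSec 𝒜 f hf F n v)
    (hw : IsTwistSec 𝒜 f hf F n w) : IsTwistSec 𝒜 f hf F n fun i => v i + w i := fun i j => by
  rw [map_add, map_add, hv i j, hw i j, smul_add]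

variable {hf F} in
theorem IsTwistSec.ratio_smul {k n : ℕ} {a : A} (ha : a ∈ 𝒜 k) {v : ∀ i, Γ(F, Proj.basicOpen 𝒜 (f i))}
    (hv : IsTwistSec 𝒜 f hf F n v) : IsTwistSec 𝒜 f hf F (k + n) fun i => ratio 𝒜 (hf i) ha • v i := fun i j => by
  rw [Scheme.Modules.map_smul, Scheme.Modules.map_smul, hv i j,
    res_ratio 𝒜 (hf i) (hf j) ha inf_le_left inf_le_right, smul_smul, smul_smul, pow_add]
  congr 1
  ring

/-- The module of families of twisted sections. -/
def gamma : Submodule A (∀ i, Comp 𝒜 f F hf i) where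
  carrier := {p | ∀ n, IsTwistSec 𝒜 f hf F n fun i => cf 𝒜 f F (p i) n}
  zero_mem' n := isTwistSec_zero 𝒜 f hf F n
  add_mem' hp hq n := (hp n).add 𝒜 f (hq n)
  smul_mem' a p hp := by
    classical
    suffices ∀ (k : ℕ) (b : A), b ∈ 𝒜 k → ∀ n, IsTwistSec 𝒜 f hf F n fun i => cf 𝒜 f F ((b • p) i) n by
      rw [← DirectSum.sum_support_decompose 𝒜 a, Finset.sum_smul]
      refine Finset.sum_induction _ (fun q : ∀ i, Comp 𝒜 f F hf i =>
        ∀ n, IsTwistSec 𝒜 f hf F n fun i => cf 𝒜 f F (q i) n)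
        (fun x y hx hy n => (hx n).add 𝒜 f (hy n)) (fun n => isTwistSec_zero 𝒜 f hf F n)
        fun k _ => this k _ (DirectSum.decompose 𝒜 a k).2
    intro k b hb n
    rw [show (fun i => cf 𝒜 f F ((b • p) i) n) =
      fun i => if k ≤ n then ratio 𝒜 (hf i) hb • cf 𝒜 f F (p i) (n - k) else 0 from
      funext fun i => cf_smul 𝒜 f F hb (p i) n]
    by_cases h : k ≤ n
    · simp only [if_pos h]
      have := (hp (n - k)).ratio_smul 𝒜 f hb
      rwa [Nat.add_sub_cancel' h] at this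
    · simp only [if_neg h]
      exact isTwistSec_zero 𝒜 f hf F n

/-- The twisted sections of weight `n`, as a piece of `gamma`. -/
def piece (n : ℕ) : AddSubgroup (gamma 𝒜 f hf F) where
  carrier := {p | ∀ i m, m ≠ n → cf 𝒜 f F (p.1 i) m = 0}
  zero_mem' i m _ := rfl
  add_mem' hp hq i m hm := by
    change cf 𝒜 f F (_ + _) m = 0
    rw [cf_add, hp i m hm, hq i m hm, add_zero]
  neg_mem' {p} hp i m hm := by
    change cf 𝒜 f F (-p.1 i) m = 0
    have := cf_add 𝒜 f F (p.1 i) (-p.1 i) m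
    rw [add_neg_cancel, cf_zero, hp i m hm, zero_add] at this
    exact this.symm

/-- Projection to a piece. -/
def gproj (n : ℕ) : gamma 𝒜 f hf F →+ gamma 𝒜 f hf F where
  toFun p := ⟨fun i => mono 𝒜 f F hf i n (cf 𝒜 f F (p.1 i) n), fun m => by
    by_cases h : n = m
    · subst h
      simp only [cf_mono, if_pos]
      exact p.2 n
    · simp only [cf_mono, if_neg h]
      exact isTwistSec_zero 𝒜 f hf F m⟩
  map_zero' := Subtype.ext (funext fun i => by
    change mono 𝒜 f F hf i n (cf 𝒜 f F (0 : Comp 𝒜 f F hf i) n) = 0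
    rw [cf_zero, map_zero])
  map_add' p q := Subtype.ext (funext fun i => by
    change mono 𝒜 f F hf i n (cf 𝒜 f F (p.1 i + q.1 i) n) = _
    rw [cf_add, map_add]; rfl)

theorem cf_gproj (n m : ℕ) (p : gamma 𝒜 f hf F) (i : ι) :
    cf 𝒜 f F ((gproj 𝒜 f hf F n p).1 i) m = if n = m then cf 𝒜 f F (p.1 i) n else 0 :=
  cf_mono 𝒜 f F i n m _

/-- The element of weight `n` given by a compatible family. -/
def ofTwistSec {n : ℕ} (v : ∀ i, Γ(F, Proj.basicOpen 𝒜 (f i))) (hv : IsTwistSec 𝒜 f hf F n v) :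
    gamma 𝒜 f hf F :=
  ⟨fun i => mono 𝒜 f F hf i n (v i), fun m => by
    by_cases h : n = m
    · subst h
      simp only [cf_mono, if_pos]
      exact hv
    · simp only [cf_mono, if_neg h]
      exact isTwistSec_zero 𝒜 f hf F m⟩

theorem ofTwistSec_mem {n : ℕ} (v : ∀ i, Γ(F, Proj.basicOpen 𝒜 (f i))) (hv : IsTwistSec 𝒜 f hf F n v) :
    ofTwistSec 𝒜 f hf F v hv ∈ piece 𝒜 f hf F n := fun i m hm => by
  change cf 𝒜 f F (mono 𝒜 f F hf i n (v i)) m = 0
  rw [cf_mono, if_neg hm.symm]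

theorem cf_ofTwistSec {n : ℕ} (v : ∀ i, Γ(F, Proj.basicOpen 𝒜 (f i))) (hv : IsTwistSec 𝒜 f hf F n v) (i : ι) :
    cf 𝒜 f F ((ofTwistSec 𝒜 f hf F v hv).1 i) n = v i := by
  change cf 𝒜 f F (mono 𝒜 f F hf i n (v i)) n = v i
  rw [cf_mono, if_pos rfl]

theorem cf_smul_piece {k l : ℕ} {a : A} (ha : a ∈ 𝒜 k) (p : gamma 𝒜 f hf F) (i : ι) :
    cf 𝒜 f F ((a • p).1 i) (k + l) = ratio 𝒜 (hf i) ha • cf 𝒜 f F (p.1 i) l := by
  change cf 𝒜 f F (a • p.1 i) (k + l) = _
  rw [cf_smul 𝒜 f F ha, if_pos (Nat.le_add_right k l), Nat.add_sub_cancel_left]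

instance piece_gradedSMul : SetLike.GradedSMul 𝒜 (piece 𝒜 f hf F) where
  smul_mem {k l a p} ha hp := fun i m hm => by
    change cf 𝒜 f F (a • p.1 i) m = 0
    rw [cf_smul 𝒜 f F ha]
    split_ifs with h
    · rw [hp i (m - k) (fun e => hm (by change m = k + l; omega)), smul_zero]
    · rfl

theorem sum_gproj [Finite ι] (p : gamma 𝒜 f hf F) : ∃ s : Finset ℕ, ∑ n ∈ s, gproj 𝒜 f hf F n p = p := by
  classical
  have := Fintype.ofFinite ι
  refine ⟨Finset.univ.biUnion fun i =>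
    (show PolynomialModule Γ(Proj 𝒜, Proj.basicOpen 𝒜 (f i)) Γ(F, Proj.basicOpen 𝒜 (f i)) from p.1 i).coeff.support,
    Subtype.ext (funext fun i => cf_ext 𝒜 f F fun m => ?_)⟩
  rw [AddSubmonoidClass.coe_finsetSum, Finset.sum_apply]
  let c : Comp 𝒜 f F hf i →+ Γ(F, Proj.basicOpen 𝒜 (f i)) := AddMonoidHom.mk' (fun q => cf 𝒜 f F q m) fun a b => rfl
  rw [show cf 𝒜 f F (∑ n ∈ _, (gproj 𝒜 f hf F n p).1 i) m = c (∑ n ∈ _, (gproj 𝒜 f hf F n p).1 i) from rfl,
    map_sum, Finset.sum_eq_single m]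
  · exact (cf_gproj 𝒜 f hf F m m p i).trans (if_pos rfl)
  · intro n _ hn
    exact (cf_gproj 𝒜 f hf F n m p i).trans (if_neg hn)
  · intro hm
    refine (cf_gproj 𝒜 f hf F m m p i).trans ((if_pos rfl).trans ?_)
    refine Finsupp.notMem_support_iff.1 fun h => hm (Finset.mem_biUnion.2 ⟨i, Finset.mem_univ i, h⟩)

theorem gproj_mem (n : ℕ) (p : gamma 𝒜 f hf F) : gproj 𝒜 f hf F n p ∈ piece 𝒜 f hf F n := fun i m hm => by
  rw [cf_gproj, if_neg hm.symm]

theorem gproj_same (n : ℕ) (p : gamma 𝒜 f hf F) (hp : p ∈ piece 𝒜 f hf F n) : gproj 𝒜 f hf F n p = p :=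
  Subtype.ext (funext fun i => cf_ext 𝒜 f F fun m => by
    rw [cf_gproj]
    split_ifs with h
    · rw [h]
    · exact (hp i m (Ne.symm h)).symm)

theorem gproj_ne (n k : ℕ) (h : n ≠ k) (p : gamma 𝒜 f hf F) (hp : p ∈ piece 𝒜 f hf F k) :
    gproj 𝒜 f hf F n p = 0 :=
  Subtype.ext (funext fun i => cf_ext 𝒜 f F fun m => by
    rw [cf_gproj]
    split_ifs with h'
    · exact hp i n h
    · rfl)

instance piece_decomposition [Finite ι] : DirectSum.Decomposition (piece 𝒜 f hf F) :=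
  decompositionOfProj _ (gproj 𝒜 f hf F) (gproj_mem 𝒜 f hf F) (gproj_same 𝒜 f hf F) (gproj_ne 𝒜 f hf F)
    (sum_gproj 𝒜 f hf F)

end Groth.Agent.H11Tilde
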