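import Groth.Agent.H11Tilde.GammaStar.Transfer
import Groth.Agent.H10Coh.FinType2

/-!
# A finite type `M~` comes from a finitely generated graded submodule of `M`
-/

set_option autoImplicit false

noncomputable section

universe u

open CategoryTheory AlgebraicGeometry TopologicalSpace Opposite

namespace Groth.Agent.H11Tilde

variable {A σA : Type u} [CommRing A] [SetLike σA A] [AddSubgroupClass σA A] (𝒜 : ℕ → σA) [GradedRing 𝒜]
variable {M τ : Type u} [AddCommGroup M] [Module A M] [SetLike τ M] [AddSubgroupClass τ M] (ℳ : ℕ → τ)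
  [SetLike.GradedSMul 𝒜 ℳ] [DirectSum.Decomposition ℳ]

include 𝒜 in
theorem component_mem_span {T : Set M} (hT : ∀ z ∈ T, ∃ k, z ∈ ℳ k) {x : M} (hx : x ∈ Submodule.span A T)
    (n : ℕ) : (DirectSum.decompose ℳ x n : M) ∈ Submodule.span A T := by
  classical
  induction hx using Submodule.span_induction generalizing n with
  | mem z hz =>
    obtain ⟨k, hk⟩ := hT z hz
    rcases eq_or_ne k n with rfl | hkn
    · rw [DirectSum.decompose_of_mem_same ℳ hk]; exact Submodule.subset_span hz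
    · rw [DirectSum.decompose_of_mem_ne ℳ hk hkn]; exact zero_mem _
  | zero => simp
  | add a b _ _ ha hb =>
    rw [DirectSum.decompose_add, DirectSum.add_apply, AddMemClass.coe_add]; exact add_mem (ha n) (hb n)
  | smul a y _ hy =>
    rw [← DirectSum.sum_support_decompose 𝒜 a, ← DirectSum.sum_support_decompose ℳ y, Finset.sum_smul]
    simp only [Finset.smul_sum]
    have hc : ∀ u v : M, (DirectSum.decompose ℳ u n : M) ∈ Submodule.span A T →
        (DirectSum.decompose ℳ v n : M) ∈ Submodule.span A T →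
        (DirectSum.decompose ℳ (u + v) n : M) ∈ Submodule.span A T := fun u v hu hv => by
      rw [DirectSum.decompose_add, DirectSum.add_apply, AddMemClass.coe_add]; exact add_mem hu hv
    have h0 : (DirectSum.decompose ℳ (0 : M) n : M) ∈ Submodule.span A T := by simp
    refine Finset.sum_induction _ (fun u : M => (DirectSum.decompose ℳ u n : M) ∈ Submodule.span A T) hc h0
      fun i _ => Finset.sum_induction _ (fun u : M => (DirectSum.decompose ℳ u n : M) ∈ Submodule.span A T) hc h0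
      fun j _ => ?_
    have hij : (DirectSum.decompose 𝒜 a i : A) • (DirectSum.decompose ℳ y j : M) ∈ ℳ (i + j) :=
      SetLike.GradedSMul.smul_mem (DirectSum.decompose 𝒜 a i).2 (DirectSum.decompose ℳ y j).2
    by_cases h : i + j = n
    · rw [DirectSum.decompose_of_mem_same ℳ (h ▸ hij)]; exact Submodule.smul_mem _ _ (hy j)
    · rw [DirectSum.decompose_of_mem_ne ℳ hij h]; exact zero_mem _

/-- The grading induced on a submodule. -/
def subPiece (N : Submodule A M) (n : ℕ) : AddSubgroup N where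
  carrier := {x | x.1 ∈ ℳ n}
  zero_mem' := zero_mem (ℳ n)
  add_mem' := add_mem
  neg_mem' := neg_mem

instance subPiece_gradedSMul (N : Submodule A M) : SetLike.GradedSMul 𝒜 (subPiece ℳ N) where
  smul_mem {i j a x} ha hx := (SetLike.GradedSMul.smul_mem (B := ℳ) ha hx :)

/-- Projection on a homogeneous submodule. -/
def subProj (N : Submodule A M) (hN : ∀ x ∈ N, ∀ n, (DirectSum.decompose ℳ x n : M) ∈ N) (n : ℕ) : N →+ N :=
  AddMonoidHom.mk' (fun x => ⟨DirectSum.decompose ℳ x.1 n, hN x.1 x.2 n⟩) fun a b => Subtype.ext (by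
    simp [DirectSum.decompose_add])

/-- The decomposition of a homogeneous submodule. -/
def subDecomposition (N : Submodule A M) (hN : ∀ x ∈ N, ∀ n, (DirectSum.decompose ℳ x n : M) ∈ N) :
    DirectSum.Decomposition (subPiece ℳ N) :=
  decompositionOfProj _ (subProj ℳ N hN) (fun n x => (DirectSum.decompose ℳ x.1 n).2)
    (fun n x hx => Subtype.ext (DirectSum.decompose_of_mem_same ℳ hx))
    (fun n k h x hx => Subtype.ext (DirectSum.decompose_of_mem_ne ℳ hx h.symm))
    (fun x => by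
      classical
      exact ⟨(DirectSum.decompose ℳ x.1).support, Subtype.ext (by
        rw [AddSubmonoidClass.coe_finsetSum]
        exact DirectSum.sum_support_decompose ℳ x.1)⟩)

/-- Finite generation of the sections on a finite cover by standard opens gives a finitely generated submodule. -/
theorem exists_fg_iso {ι : Type u} [Finite ι] (f : ι → A) (hf : ∀ i, f i ∈ 𝒜 1)
    (hcov : ∀ x : Proj 𝒜, ∃ i, f i ∉ x.asHomogeneousIdeal)
    (hfin : ∀ i, Module.Finite Γ(Proj 𝒜, Proj.basicOpen 𝒜 (f i)) Γ(GrMod.tilde 𝒜 ℳ 0, Proj.basicOpen 𝒜 (f i))) :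
    ∃ (N : Submodule A M) (_ : DirectSum.Decomposition (subPiece ℳ N)),
      Module.Finite A N ∧ Nonempty (GrMod.tilde 𝒜 (subPiece ℳ N) 0 ≅ GrMod.tilde 𝒜 ℳ 0) := by
  classical
  have := Fintype.ofFinite ι
  haveI := tilde_isQuasicoherent 𝒜 ℳ 0
  choose S hS using fun i => (hfin i).fg_top
  choose k d m hm hd hσ using fun (i : ι) (σ : Γ(GrMod.tilde 𝒜 ℳ 0, Proj.basicOpen 𝒜 (f i))) =>
    exists_eq_fracAt 𝒜 ℳ Nat.one_pos (hf i) σ
  let T : Finset M := Finset.univ.biUnion fun i => (S i).image (m i)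
  have hT : ∀ z ∈ (T : Set M), ∃ n, z ∈ ℳ n := fun z hz => by
    obtain ⟨i, -, hz⟩ := Finset.mem_biUnion.1 hz
    obtain ⟨σ, -, rfl⟩ := Finset.mem_image.1 hz
    exact ⟨_, hm i σ⟩
  let N := Submodule.span A (T : Set M)
  letI dec := subDecomposition ℳ N fun x hx n => component_mem_span 𝒜 ℳ hT hx n
  let φ := GrMod.map 𝒜 (ℳ := subPiece ℳ N) (𝒩 := ℳ) N.subtype (fun i x hx => hx) 0
  have : Mono φ := mono_of_injective φ fun W s hs x hx =>
    ⟨W, le_rfl, hx, by
      rw [show s = 0 from injective_map_app 𝒜 (ℳ := subPiece ℳ N) (𝒩 := ℳ) N.subtype (fun i x hx => hx) 0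
        (n₀ := 0) (fun k _ z _ hz => Subtype.ext hz) W (hs.trans (map_zero _).symm)]
      exact map_zero _⟩
  have : Epi φ := by
    refine epi_of_locally_surjective φ fun W t x hx => ?_
    obtain ⟨i, hi⟩ := hcov x
    obtain ⟨r, hrW, hxr⟩ := (Proj.isAffineOpen_basicOpen 𝒜 (f i) (hf i) Nat.one_pos).exists_basicOpen_le
      (V := W) ⟨x, hx⟩ hi
    have hsurj : Function.Surjective (φ.app (Proj.basicOpen 𝒜 (f i))) := by
      intro σ
      have hmem : σ ∈ Submodule.span Γ(Proj 𝒜, Proj.basicOpen 𝒜 (f i))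
          (↑(S i) : Set Γ(GrMod.tilde 𝒜 ℳ 0, Proj.basicOpen 𝒜 (f i))) := by rw [hS]; trivial
      induction hmem using Submodule.span_induction with
      | mem σ hσS =>
        have hmN : m i σ ∈ N := Submodule.subset_span
          (Finset.mem_biUnion.2 ⟨i, Finset.mem_univ i, Finset.mem_image.2 ⟨σ, hσS, rfl⟩⟩)
        refine ⟨secOf 𝒜 (subPiece ℳ N) (m := ⟨m i σ, hmN⟩) (hm i σ) (SetLike.pow_mem_graded (k i σ) (hf i))
          (V := Proj.basicOpen 𝒜 (f i)) (fun y hy => pow_notMem 𝒜 hy _)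
          (by simpa using hd i σ), sval_ext 𝒜 ℳ fun y => ?_⟩
        refine Eq.trans ?_ (hσ i σ y (pow_notMem 𝒜 y.2 _)).symm
        exact (GrMod.map_app_val N.subtype (fun i x hx => hx) 0 _ _ y).trans (GrMod.locMap_mk _ _ _ _)
      | zero => exact ⟨0, map_zero _⟩
      | add a b _ _ ha hb =>
        obtain ⟨a', rfl⟩ := ha
        obtain ⟨b', rfl⟩ := hb
        exact ⟨a' + b', map_add _ _ _⟩
      | smul c a _ ha =>
        obtain ⟨a', rfl⟩ := ha
        exact ⟨c • a', Scheme.Modules.Hom.app_smul _ _ _⟩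
    obtain ⟨n, σ, hσ'⟩ := H10Coh.exists_pow_smul_eq_res (GrMod.tilde 𝒜 ℳ 0)
      (Proj.isAffineOpen_basicOpen 𝒜 (f i) (hf i) Nat.one_pos) r
      ((GrMod.tilde 𝒜 ℳ 0).presheaf.map (homOfLE hrW).op t)
    obtain ⟨s, rfl⟩ := hsurj σ
    have hu : IsUnit ((Proj 𝒜).presheaf.map (homOfLE ((Proj 𝒜).basicOpen_le r)).op (r ^ n)) := by
      rw [map_pow]
      exact (RingedSpace.isUnit_res_basicOpen (Proj 𝒜).toLocallyRingedSpace.toRingedSpace r).pow n
    refine ⟨(Proj 𝒜).basicOpen r, hrW, hxr, (↑hu.unit⁻¹ : Γ(Proj 𝒜, (Proj 𝒜).basicOpen r)) •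
      (GrMod.tilde 𝒜 (subPiece ℳ N) 0).presheaf.map (homOfLE ((Proj 𝒜).basicOpen_le r)).op s, ?_⟩
    rw [Scheme.Modules.Hom.app_smul, app_map_apply, hσ', smul_smul, hu.val_inv_mul, one_smul]
  have : IsIso φ := isIso_of_mono_of_epi φ
  exact ⟨N, dec, Module.Finite.iff_fg.2 ⟨T, rfl⟩, ⟨asIso φ⟩⟩

end Groth.Agent.H11Tilde
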