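import Groth.Agent.H11Tilde.GammaStar.Module
import Groth.Agent.H11Tilde.RelMap
import Groth.Agent.H29Blow.QCohLoc

/-!
# A quasi-coherent module on Proj is attached to its module of twisted sections
-/

set_option autoImplicit false

noncomputable section

universe u

open CategoryTheory AlgebraicGeometry TopologicalSpace Opposite

namespace Groth.Agent.H11Tilde

variable {A σA : Type u} [CommRing A] [SetLike σA A] [AddSubgroupClass σA A] (𝒜 : ℕ → σA) [GradedRing 𝒜]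
  {ι : Type u} (f : ι → A) (hf : ∀ i, f i ∈ 𝒜 1) (F : (Proj 𝒜).Modules)

local notation "X" => Proj 𝒜
local notation "M" => (gamma 𝒜 f hf F)
local notation "𝕄" => (piece 𝒜 f hf F)
local notation "D" => (fun i => Proj.basicOpen 𝒜 (f i))

theorem isUnit_res_ratio {g : A} (hg : g ∈ 𝒜 1) {k : ℕ} {a : A} (ha : a ∈ 𝒜 k) {V : (Proj 𝒜).Opens}
    (hV : V ≤ Proj.basicOpen 𝒜 g) (hVa : ∀ y ∈ V, a ∉ y.asHomogeneousIdeal) :
    IsUnit ((Proj 𝒜).presheaf.map (homOfLE hV).op (ratio 𝒜 hg ha)) := by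
  have hle : V ≤ (Proj 𝒜).basicOpen (ratio 𝒜 hg ha) := by
    rw [basicOpen_ratio]
    exact fun y hy => mul_notMem 𝒜 (hV hy) (hVa y hy)
  have h : IsUnit ((Proj 𝒜).presheaf.map (homOfLE ((Proj 𝒜).basicOpen_le (ratio 𝒜 hg ha))).op (ratio 𝒜 hg ha)) :=
    RingedSpace.isUnit_res_basicOpen (Proj 𝒜).toLocallyRingedSpace.toRingedSpace _
  have h' := h.map ((Proj 𝒜).presheaf.map (homOfLE hle).op).hom
  rw [← ConcreteCategory.comp_apply, ← Functor.map_comp] at h'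
  exact h'

/-- On `V`, the fraction representing `σ` corresponds to the section `t`. -/
def Rep {W : (Proj 𝒜).Opens} (σ : Γ(GrMod.tilde 𝒜 𝕄 0, W)) (V : (Proj 𝒜).Opens) (hVW : V ≤ W) (t : Γ(F, V)) : Prop :=
  ∃ (i : ι) (k : ℕ) (a : A) (ha : a ∈ 𝒜 k) (m : M) (_ : m ∈ 𝕄 k) (hVi : V ≤ Proj.basicOpen 𝒜 (f i))
    (hVa : ∀ y ∈ V, a ∉ y.asHomogeneousIdeal),
    (∀ y : V, sval 𝒜 𝕄 σ ⟨y.1, hVW y.2⟩ = fracAt 𝒜 y.1 m a (hVa y.1 y.2)) ∧
      (Proj 𝒜).presheaf.map (homOfLE hVi).op (ratio 𝒜 (hf i) ha) • t =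
        F.presheaf.map (homOfLE hVi).op (cf 𝒜 f F (m.1 i) k)

variable {𝒜 f hf F}

theorem eq_on_smaller {V V' : (Proj 𝒜).Opens} (h : V' ≤ V) {i : ι} (hVi : V ≤ Proj.basicOpen 𝒜 (f i))
    {r : Γ(Proj 𝒜, Proj.basicOpen 𝒜 (f i))} {t : Γ(F, V)} {v : Γ(F, Proj.basicOpen 𝒜 (f i))}
    (e : (Proj 𝒜).presheaf.map (homOfLE hVi).op r • t = F.presheaf.map (homOfLE hVi).op v) :
    (Proj 𝒜).presheaf.map (homOfLE (h.trans hVi)).op r • F.presheaf.map (homOfLE h).op t =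
      F.presheaf.map (homOfLE (h.trans hVi)).op v := by
  have e' := congrArg (F.presheaf.map (homOfLE h).op) e
  rw [Scheme.Modules.map_smul, H10Coh.mres_mres, H10Coh.rres_rres] at e'
  exact e'

theorem Rep.res {W : (Proj 𝒜).Opens} {σ : Γ(GrMod.tilde 𝒜 𝕄 0, W)} {V : (Proj 𝒜).Opens} {hVW : V ≤ W}
    {t : Γ(F, V)} (h : Rep 𝒜 f hf F σ V hVW t) {V' : (Proj 𝒜).Opens} (hV' : V' ≤ V) :
    Rep 𝒜 f hf F σ V' (hV'.trans hVW) (F.presheaf.map (homOfLE hV').op t) := by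
  obtain ⟨i, k, a, ha, m, hm, hVi, hVa, hσ, ht⟩ := h
  exact ⟨i, k, a, ha, m, hm, hV'.trans hVi, fun y hy => hVa y (hV' hy), fun y => hσ ⟨y.1, hV' y.2⟩,
    eq_on_smaller hV' hVi ht⟩

theorem res_cf_change {V : (Proj 𝒜).Opens} {i j : ι} (hVi : V ≤ Proj.basicOpen 𝒜 (f i))
    (hVj : V ≤ Proj.basicOpen 𝒜 (f j)) (m : M) (k : ℕ) :
    F.presheaf.map (homOfLE hVj).op (cf 𝒜 f F (m.1 j) k) =
      (Proj 𝒜).presheaf.map (homOfLE hVj).op (ratio 𝒜 (hf j) (hf i)) ^ k •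
        F.presheaf.map (homOfLE hVi).op (cf 𝒜 f F (m.1 i) k) := by
  have e := congrArg (F.presheaf.map (homOfLE (le_inf hVi hVj)).op) (m.2 k i j)
  rw [Scheme.Modules.map_smul, map_pow, H10Coh.mres_mres, H10Coh.mres_mres, H10Coh.rres_rres] at e
  exact e

theorem Rep.change {W : (Proj 𝒜).Opens} {σ : Γ(GrMod.tilde 𝒜 𝕄 0, W)} {V : (Proj 𝒜).Opens} {hVW : V ≤ W}
    {t : Γ(F, V)} (h : Rep 𝒜 f hf F σ V hVW t) {j : ι} (hVj : V ≤ Proj.basicOpen 𝒜 (f j)) :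
    ∃ (k : ℕ) (a : A) (ha : a ∈ 𝒜 k) (m : M) (_ : m ∈ 𝕄 k) (hVa : ∀ y ∈ V, a ∉ y.asHomogeneousIdeal),
      (∀ y : V, sval 𝒜 𝕄 σ ⟨y.1, hVW y.2⟩ = fracAt 𝒜 y.1 m a (hVa y.1 y.2)) ∧
        (Proj 𝒜).presheaf.map (homOfLE hVj).op (ratio 𝒜 (hf j) ha) • t =
          F.presheaf.map (homOfLE hVj).op (cf 𝒜 f F (m.1 j) k) := by
  obtain ⟨i, k, a, ha, m, hm, hVi, hVa, hσ, ht⟩ := h
  refine ⟨k, a, ha, m, hm, hVa, hσ, ?_⟩
  rw [res_ratio 𝒜 (hf i) (hf j) ha hVi hVj, res_cf_change hVi hVj, mul_smul, ht]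

theorem cf_smul_sub {k l : ℕ} {a b : A} (ha : a ∈ 𝒜 k) (hb : b ∈ 𝒜 l) (p q : M) (i : ι) :
    cf 𝒜 f F ((b • p - a • q).1 i) (k + l) =
      ratio 𝒜 (hf i) hb • cf 𝒜 f F (p.1 i) k - ratio 𝒜 (hf i) ha • cf 𝒜 f F (q.1 i) l := by
  have e := cf_add 𝒜 f F ((b • p - a • q).1 i) ((a • q).1 i) (k + l)
  rw [show (b • p - a • q).1 i + (a • q).1 i = (b • p).1 i from sub_add_cancel ((b • p).1 i) ((a • q).1 i)] at e
  rw [cf_smul_piece 𝒜 f hf F ha q i] at e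
  rw [eq_sub_iff_add_eq, ← e, add_comm k l]
  exact cf_smul_piece 𝒜 f hf F hb p i

variable [Finite ι] (hcov : ∀ x : Proj 𝒜, ∃ i, f i ∉ x.asHomogeneousIdeal)

/-- Two representatives agree near each common point. -/
theorem Rep.agree {W : (Proj 𝒜).Opens} {σ : Γ(GrMod.tilde 𝒜 𝕄 0, W)} {V V' : (Proj 𝒜).Opens}
    {hVW : V ≤ W} {hVW' : V' ≤ W} {t : Γ(F, V)} {t' : Γ(F, V')}
    (h : Rep 𝒜 f hf F σ V hVW t) (h' : Rep 𝒜 f hf F σ V' hVW' t') {x : Proj 𝒜} (hx : x ∈ V) (hx' : x ∈ V') :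
    ∃ (U : (Proj 𝒜).Opens) (hU : U ≤ V) (hU' : U ≤ V'), x ∈ U ∧
      F.presheaf.map (homOfLE hU).op t = F.presheaf.map (homOfLE hU').op t' := by
  obtain ⟨i, k, a, ha, m, hm, hVi, hVa, hσ, ht⟩ := h
  obtain ⟨l, b, hb, q, hq, hVb, hσ', ht'⟩ :=
    (h'.res (inf_le_right : V ⊓ V' ≤ V')).change (j := i) (inf_le_left.trans hVi)
  have hdiff : b • m - a • q ∈ 𝕄 (k + l) := by
    refine sub_mem ?_ (SetLike.GradedSMul.smul_mem ha hq)
    rw [add_comm k l]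
    exact SetLike.GradedSMul.smul_mem hb hm
  obtain ⟨r, hr, hr0⟩ := exists_of_fracAt_eq 𝒜 x (hVa x hx) (hVb x ⟨hx, hx'⟩)
    ((hσ ⟨x, hx⟩).symm.trans (hσ' ⟨x, hx, hx'⟩))
  obtain ⟨e, c, hc, hcx, hc0⟩ := exists_homogeneous_kill 𝒜 hdiff hr hr0
  let U : (Proj 𝒜).Opens := (V ⊓ V') ⊓ Proj.basicOpen 𝒜 c
  refine ⟨U, fun y hy => hy.1.1, fun y hy => hy.1.2, ⟨⟨hx, hx'⟩, hcx⟩, ?_⟩
  have hUi : U ≤ Proj.basicOpen 𝒜 (f i) := fun y hy => hVi hy.1.1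
  have h0 := congrArg (fun p : M => F.presheaf.map (homOfLE hUi).op (cf 𝒜 f F (p.1 i) (e + (k + l)))) hc0
  simp only [cf_smul_piece 𝒜 f hf F hc, cf_smul_sub ha hb] at h0
  rw [show cf 𝒜 f F ((0 : M).1 i) (e + (k + l)) = 0 from rfl, map_zero, Scheme.Modules.map_smul, map_sub,
    Scheme.Modules.map_smul, Scheme.Modules.map_smul] at h0
  have e1 := eq_on_smaller (show U ≤ V from fun y hy => hy.1.1) hVi ht
  have e2 := eq_on_smaller (show U ≤ V ⊓ V' from inf_le_left) (inf_le_left.trans hVi) ht'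
  rw [H10Coh.mres_mres] at e2
  rw [← e1, ← e2, smul_smul ((Proj 𝒜).presheaf.map (homOfLE hUi).op (ratio 𝒜 (hf i) hb)),
    smul_smul ((Proj 𝒜).presheaf.map (homOfLE hUi).op (ratio 𝒜 (hf i) ha)),
    mul_comm ((Proj 𝒜).presheaf.map (homOfLE hUi).op (ratio 𝒜 (hf i) hb)), ← smul_sub, smul_smul] at h0
  have hu : IsUnit ((Proj 𝒜).presheaf.map (homOfLE hUi).op (ratio 𝒜 (hf i) hc) *
      ((Proj 𝒜).presheaf.map (homOfLE hUi).op (ratio 𝒜 (hf i) ha) *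
        (Proj 𝒜).presheaf.map (homOfLE hUi).op (ratio 𝒜 (hf i) hb))) :=
    (isUnit_res_ratio 𝒜 (hf i) hc hUi fun y hy => hy.2).mul
      ((isUnit_res_ratio 𝒜 (hf i) ha hUi fun y hy => hVa y hy.1.1).mul
        (isUnit_res_ratio 𝒜 (hf i) hb hUi fun y hy => hVb y hy.1))
  exact sub_eq_zero.1 (hu.smul_eq_zero.1 h0)

include hcov in
theorem exists_rep {W : (Proj 𝒜).Opens} (σ : Γ(GrMod.tilde 𝒜 𝕄 0, W)) {x : Proj 𝒜} (hx : x ∈ W) :
    ∃ (V : (Proj 𝒜).Opens) (hVW : V ≤ W) (t : Γ(F, V)), x ∈ V ∧ Rep 𝒜 f hf F σ V hVW t := by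
  obtain ⟨i, hi⟩ := hcov x
  obtain ⟨Vs, hxV, iV, k', k, ⟨m, hm⟩, ⟨a, ha⟩, anin, hd, hw⟩ := (show GrMod.sect 𝒜 𝕄 0 (op W) from σ).2 ⟨x, hx⟩
  have hmem : m ∈ 𝕄 k := by
    rcases hd with hd | hd
    · have : k' = k := by omega
      exact this ▸ hm
    · rw [show m = 0 from hd]; exact zero_mem _
  let V : (Proj 𝒜).Opens := Vs ⊓ Proj.basicOpen 𝒜 (f i)
  have hu := isUnit_res_ratio 𝒜 (hf i) ha (V := V) inf_le_right fun y hy => anin ⟨y, hy.1⟩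
  refine ⟨V, fun y hy => iV.le hy.1,
    (↑hu.unit⁻¹ : Γ(Proj 𝒜, V)) • F.presheaf.map (homOfLE inf_le_right).op (cf 𝒜 f F (m.1 i) k), ⟨hxV, hi⟩,
    i, k, a, ha, m, hmem, inf_le_right, fun y hy => anin ⟨y, hy.1⟩, fun y => hw ⟨y.1, y.2.1⟩, ?_⟩
  rw [smul_smul, hu.mul_val_inv, one_smul]

/-- `t` is the section corresponding to `σ`. -/
def Good {W : (Proj 𝒜).Opens} (σ : Γ(GrMod.tilde 𝒜 𝕄 0, W)) (t : Γ(F, W)) : Prop :=
  ∀ x ∈ W, ∃ (V : (Proj 𝒜).Opens) (hV : V ≤ W), x ∈ V ∧ Rep 𝒜 f hf F σ V hV (F.presheaf.map (homOfLE hV).op t)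

theorem good_unique {W : (Proj 𝒜).Opens} {σ : Γ(GrMod.tilde 𝒜 𝕄 0, W)} {t t' : Γ(F, W)}
    (h : Good σ t) (h' : Good σ t') : t = t' := by
  refine eq_of_locally t t' fun x hx => ?_
  obtain ⟨V, hV, hxV, hr⟩ := h x hx
  obtain ⟨V', hV', hxV', hr'⟩ := h' x hx
  obtain ⟨U, hU, hU', hxU, e⟩ := hr.agree hr' hxV hxV'
  rw [H10Coh.mres_mres, H10Coh.mres_mres] at e
  exact ⟨U, hU.trans hV, hxU, e⟩

include hcov in
theorem exists_good {W : (Proj 𝒜).Opens} (σ : Γ(GrMod.tilde 𝒜 𝕄 0, W)) : ∃ t, Good σ t := by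
  choose V hVW t hxV hrep using fun x : W => exists_rep hcov σ x.2
  have hcompat : TopCat.Presheaf.IsCompatible F.presheaf V t := by
    intro a b
    refine eq_of_locally (W := V a ⊓ V b) _ _ fun x hx => ?_
    obtain ⟨U, hU, hU', hxU, e⟩ := (hrep a).agree (hrep b) hx.1 hx.2
    refine ⟨U, le_inf hU hU', hxU, ?_⟩
    change F.presheaf.map _ (F.presheaf.map _ (t a)) = F.presheaf.map _ (F.presheaf.map _ (t b))
    rw [← ConcreteCategory.comp_apply, ← ConcreteCategory.comp_apply, ← Functor.map_comp, ← Functor.map_comp]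
    exact e
  obtain ⟨s, hs, -⟩ := TopCat.Sheaf.existsUnique_gluing' ⟨F.presheaf, F.isSheaf⟩ V W
    (fun a => homOfLE (hVW a)) (fun x hx => Opens.mem_iSup.2 ⟨⟨x, hx⟩, hxV ⟨x, hx⟩⟩) t hcompat
  refine ⟨s, fun x hx => ⟨V ⟨x, hx⟩, hVW ⟨x, hx⟩, hxV ⟨x, hx⟩, ?_⟩⟩
  exact (show F.presheaf.map (homOfLE (hVW ⟨x, hx⟩)).op s = t ⟨x, hx⟩ from hs ⟨x, hx⟩).symm ▸ hrep ⟨x, hx⟩

theorem Good.add {W : (Proj 𝒜).Opens} {σ σ' : Γ(GrMod.tilde 𝒜 𝕄 0, W)} {t t' : Γ(F, W)}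
    (h : Good σ t) (h' : Good σ' t') : Good (σ + σ') (t + t') := by
  intro x hx
  obtain ⟨V, hV, hxV, hr⟩ := h x hx
  obtain ⟨V', hV', hxV', hr'⟩ := h' x hx
  obtain ⟨i, k, a, ha, m, hm, hVi, hVa, hσ, ht⟩ := hr
  obtain ⟨l, b, hb, q, hq, hVb, hσ', ht'⟩ :=
    (hr'.res (inf_le_right : V ⊓ V' ≤ V')).change (j := i) (inf_le_left.trans hVi)
  have hmem : b • m + a • q ∈ 𝕄 (k + l) := by
    refine add_mem ?_ (SetLike.GradedSMul.smul_mem ha hq)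
    rw [add_comm k l]
    exact SetLike.GradedSMul.smul_mem hb hm
  refine ⟨V ⊓ V', inf_le_left.trans hV, ⟨hxV, hxV'⟩, i, k + l, a * b, SetLike.mul_mem_graded ha hb,
    b • m + a • q, hmem, inf_le_left.trans hVi, fun y hy => mul_notMem 𝒜 (hVa y hy.1) (hVb y hy), fun y => ?_, ?_⟩
  · refine ((congrArg₂ (· + ·) (hσ ⟨y.1, y.2.1⟩) (hσ' y)).trans ?_)
    exact LocalizedModule.mk_add_mk
  · have e1 := eq_on_smaller (show V ⊓ V' ≤ V from inf_le_left) hVi ht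
    rw [H10Coh.mres_mres] at e1 ht'
    have hcf : cf 𝒜 f F ((b • m + a • q).1 i) (k + l) =
        ratio 𝒜 (hf i) hb • cf 𝒜 f F (m.1 i) k + ratio 𝒜 (hf i) ha • cf 𝒜 f F (q.1 i) l := by
      change cf 𝒜 f F ((b • m).1 i + (a • q).1 i) (k + l) = _
      rw [cf_add, cf_smul_piece 𝒜 f hf F ha q i, add_comm k l, cf_smul_piece 𝒜 f hf F hb m i]
    rw [map_add, smul_add, hcf, map_add, Scheme.Modules.map_smul, Scheme.Modules.map_smul, ← e1, ← ht',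
      ratio_mul 𝒜 (hf i) ha hb, map_mul, smul_smul, smul_smul]
    congr 2
    ring

theorem Good.smul {W : (Proj 𝒜).Opens} (r : Γ(Proj 𝒜, W)) {σ : Γ(GrMod.tilde 𝒜 𝕄 0, W)} {t : Γ(F, W)}
    (h : Good σ t) : Good (r • σ) (r • t) := by
  intro x hx
  obtain ⟨V, hV, hxV, hr⟩ := h x hx
  obtain ⟨Vr, hxr, ir, e, ⟨b, hb⟩, ⟨c, hc⟩, cnin, hw⟩ := (show GrTwist.O (𝒜 := 𝒜) (op W) from r).2 ⟨x, hx⟩
  obtain ⟨i, k, a, ha, m, hm, hVi, hVa, hσ, ht⟩ := hr.res (inf_le_left : V ⊓ Vr ≤ V)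
  refine ⟨V ⊓ Vr, inf_le_left.trans hV, ⟨hxV, hxr⟩, i, e + k, c * a, SetLike.mul_mem_graded hc ha, b • m,
    SetLike.GradedSMul.smul_mem hb hm, hVi, fun y hy => mul_notMem 𝒜 (cnin ⟨y, hy.2⟩) (hVa y hy), fun y => ?_, ?_⟩
  · have hrv : fval 𝒜 r ⟨y.1, hV y.2.1⟩ = Localization.mk b ⟨c, cnin ⟨y.1, y.2.2⟩⟩ := by
      refine (congrArg HomogeneousLocalization.val (hw ⟨y.1, y.2.2⟩)).trans ?_
      exact HomogeneousLocalization.val_mk _
    rw [sval_smul, hσ y, hrv]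
    exact LocalizedModule.mk_smul_mk _ _ _ _
  · rw [cf_smul_piece 𝒜 f hf F hb m i]
    simp only [Scheme.Modules.map_smul]
    rw [← ht, H10Coh.mres_mres, smul_smul, smul_smul]
    congr 1
    refine fval_ext 𝒜 fun y => ?_
    have hrv : fval 𝒜 r ⟨y.1, hV y.2.1⟩ = Localization.mk b ⟨c, cnin ⟨y.1, y.2.2⟩⟩ := by
      refine (congrArg HomogeneousLocalization.val (hw ⟨y.1, y.2.2⟩)).trans ?_
      exact HomogeneousLocalization.val_mk _
    rw [fval_mul, fval_mul, fval_map, fval_map, fval_map, fval_map, fval_ratio, fval_ratio, fval_ratio, hrv,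
      Localization.mk_mul, Localization.mk_mul]
    exact Localization.mk_eq_mk_iff.2 (Localization.r_iff_exists.2 ⟨1, by simp [pow_add]; ring⟩)

theorem Good.res {W W' : (Proj 𝒜).Opens} (hW : W' ≤ W) {σ : Γ(GrMod.tilde 𝒜 𝕄 0, W)} {t : Γ(F, W)}
    (h : Good σ t) : Good ((GrMod.tilde 𝒜 𝕄 0).presheaf.map (homOfLE hW).op σ) (F.presheaf.map (homOfLE hW).op t) := by
  intro x hx
  obtain ⟨V, hV, hxV, hr⟩ := h x (hW hx)
  refine ⟨V ⊓ W', inf_le_right, ⟨hxV, hx⟩, ?_⟩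
  rw [H10Coh.mres_mres]
  obtain ⟨i, k, a, ha, m, hm, hVi, hVa, hσ, ht⟩ := hr.res (inf_le_left : V ⊓ W' ≤ V)
  rw [H10Coh.mres_mres] at ht
  exact ⟨i, k, a, ha, m, hm, hVi, hVa, hσ, ht⟩

variable (hf F) in
include hcov in
theorem exists_gammaHom : ∃ φ : GrMod.tilde 𝒜 𝕄 0 ⟶ F, ∀ (W : (Proj 𝒜).Opens) σ, Good σ (φ.app W σ) := by
  choose g hg using fun (W : (Proj 𝒜).Opens) (σ : Γ(GrMod.tilde 𝒜 𝕄 0, W)) => exists_good hcov σ
  refine ⟨⟨PresheafOfModules.homMk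
    { app := fun W => AddCommGrpCat.ofHom
        (AddMonoidHom.mk' (g W.unop) fun a b => good_unique (hg _ (a + b)) ((hg _ a).add (hg _ b)))
      naturality := fun W W' i => by
        ext σ
        exact good_unique (hg W'.unop _) ((hg W.unop σ).res i.unop.le) }
    fun W (r : Γ(Proj 𝒜, W.unop)) (σ : Γ(GrMod.tilde 𝒜 𝕄 0, W.unop)) =>
      good_unique (hg W.unop (r • σ)) ((hg W.unop σ).smul r)⟩, hg⟩

theorem basicOpen_le_basicOpen_ratio (g : A) {h : A} :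
    Proj.basicOpen 𝒜 (h * g) ≤ Proj.basicOpen 𝒜 h ⊓ Proj.basicOpen 𝒜 g := by
  rw [Proj.basicOpen_mul]

variable (hf F) in
include hcov in
theorem nonempty_tilde_gamma_iso (hF : Coh.IsQCoh F) : Nonempty (GrMod.tilde 𝒜 𝕄 0 ≅ F) := by
  classical
  have := Fintype.ofFinite ι
  haveI : F.IsQuasicoherent := hF
  obtain ⟨φ, hφ⟩ := exists_gammaHom hf F hcov
  have haff : ∀ i, IsAffineOpen (Proj.basicOpen 𝒜 (f i)) := fun i =>
    Proj.isAffineOpen_basicOpen 𝒜 (f i) (hf i) Nat.one_pos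
  have : Mono φ := by
    refine mono_of_injective φ fun W σ hσ0 x hx => ?_
    obtain ⟨V, hV, hxV, hr⟩ := hφ W σ x hx
    rw [hσ0, map_zero] at hr
    obtain ⟨i, k, a, ha, m, hm, hVi, hVa, hσ, ht⟩ := hr
    rw [smul_zero] at ht
    obtain ⟨e, g, he, hg, hgx, hgV⟩ := exists_basicOpen_nhd 𝒜 Nat.one_pos (hf i)
      (show f i ∉ x.asHomogeneousIdeal from hVi hxV) (V := V) hxV
    have hfg : f i * g ∈ 𝒜 (1 + e) := SetLike.mul_mem_graded (hf i) hg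
    have hkill : ∀ j, ∃ N, ratio 𝒜 (hf j) hfg ^ N • cf 𝒜 f F (m.1 j) k = 0 := fun j => by
      refine H29Blow.exists_pow_smul_eq_zero F hF (haff j) _ _ ?_
      have hb : (Proj 𝒜).basicOpen (ratio 𝒜 (hf j) hfg) ≤ V := by
        rw [basicOpen_ratio]
        intro y hy
        exact (hgV y fun hc => hy (y.asHomogeneousIdeal.toIdeal.mul_mem_left _
          (y.asHomogeneousIdeal.toIdeal.mul_mem_left _ hc))).1
      rw [res_cf_change (hb.trans hVi) ((Proj 𝒜).basicOpen_le _),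
        ← H10Coh.mres_mres F hVi hb, ← ht, map_zero, smul_zero]
    choose N hN using hkill
    let K := Finset.univ.sup N
    have hz : (f i * g) ^ K • m = 0 := by
      refine Subtype.ext (funext fun j => cf_ext 𝒜 f F fun n => ?_)
      change cf 𝒜 f F ((f i * g) ^ K • m.1 j) n = 0
      rw [cf_smul 𝒜 f F (SetLike.pow_mem_graded K hfg)]
      split_ifs with h
      · by_cases hn : n - K • (1 + e) = k
        · rw [hn, ratio_pow 𝒜 (hf j) hfg]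
          obtain ⟨d, hd⟩ := Nat.exists_eq_add_of_le (Finset.le_sup (f := N) (Finset.mem_univ j))
          rw [show K = N j + d from hd, pow_add, mul_comm, mul_smul, hN, smul_zero]
        · rw [hm j _ hn, smul_zero]
      · rfl
    refine ⟨V ⊓ Proj.basicOpen 𝒜 g, inf_le_left.trans hV, ⟨hxV, hgx⟩, sval_ext 𝒜 𝕄 fun y => ?_⟩
    refine Eq.trans ?_ (sval_zero 𝒜 𝕄 y).symm
    rw [sval_map]
    refine (hσ ⟨y.1, y.2.1⟩).trans ((fracAt_eq_zero_iff 𝒜 y.1 m a _).2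
      ⟨(f i * g) ^ K, pow_notMem 𝒜 (mul_notMem 𝒜 (hVi y.2.1) y.2.2) K, hz⟩)
  have : Epi φ := by
    refine epi_of_locally_surjective φ fun W t x hx => ?_
    obtain ⟨i, hi⟩ := hcov x
    obtain ⟨e, g, he, hg, hgx, hgW⟩ := exists_basicOpen_nhd 𝒜 Nat.one_pos (hf i) hi (V := W) hx
    have hle : ∀ j, (Proj 𝒜).basicOpen (ratio 𝒜 (hf j) hg) ≤ W := fun j => by
      rw [basicOpen_ratio]
      exact fun y hy => (hgW y fun hc => hy (y.asHomogeneousIdeal.toIdeal.mul_mem_left _ hc)).1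
    choose n s hs using fun j =>
      H10Coh.exists_pow_smul_eq_res F (haff j) (ratio 𝒜 (hf j) hg) (F.presheaf.map (homOfLE (hle j)).op t)
    let N := Finset.univ.sup n
    let s' : ∀ j, Γ(F, Proj.basicOpen 𝒜 (f j)) := fun j => ratio 𝒜 (hf j) hg ^ (N - n j) • s j
    have hs' : ∀ j {O : (Proj 𝒜).Opens} (hO : O ≤ (Proj 𝒜).basicOpen (ratio 𝒜 (hf j) hg)),
        F.presheaf.map (homOfLE (hO.trans ((Proj 𝒜).basicOpen_le _))).op (s' j) =
          (Proj 𝒜).presheaf.map (homOfLE (hO.trans ((Proj 𝒜).basicOpen_le _))).op (ratio 𝒜 (hf j) hg) ^ N •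
            F.presheaf.map (homOfLE (hO.trans (hle j))).op t := fun j O hO => by
      have h := congrArg (F.presheaf.map (homOfLE hO).op) (hs j)
      rw [Scheme.Modules.map_smul, H10Coh.mres_mres, H10Coh.rres_rres, map_pow, H10Coh.mres_mres] at h
      change F.presheaf.map _ (ratio 𝒜 (hf j) hg ^ (N - n j) • s j) = _
      rw [Scheme.Modules.map_smul, h, map_pow, smul_smul, ← pow_add,
        Nat.sub_add_cancel (Finset.le_sup (f := n) (Finset.mem_univ j))]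
    clear_value s'
    -- differences on overlaps
    have hkill : ∀ p : ι × ι, ∃ K,
        ((Proj 𝒜).presheaf.map (homOfLE (inf_le_right :
          Proj.basicOpen 𝒜 (f p.1) ⊓ Proj.basicOpen 𝒜 (f p.2) ≤ _)).op (ratio 𝒜 (hf p.2) hg)) ^ K •
          (F.presheaf.map (homOfLE (inf_le_right :
              Proj.basicOpen 𝒜 (f p.1) ⊓ Proj.basicOpen 𝒜 (f p.2) ≤ _)).op (s' p.2) -
            (Proj 𝒜).presheaf.map (homOfLE (inf_le_right :
              Proj.basicOpen 𝒜 (f p.1) ⊓ Proj.basicOpen 𝒜 (f p.2) ≤ _)).op (ratio 𝒜 (hf p.2) (hf p.1)) ^ (e * N) •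
              F.presheaf.map (homOfLE (inf_le_left :
                Proj.basicOpen 𝒜 (f p.1) ⊓ Proj.basicOpen 𝒜 (f p.2) ≤ _)).op (s' p.1)) = 0 := by
      rintro ⟨j, l⟩
      dsimp only
      have haff2 : IsAffineOpen (Proj.basicOpen 𝒜 (f j) ⊓ Proj.basicOpen 𝒜 (f l)) := by
        rw [← Proj.basicOpen_mul]
        exact Proj.isAffineOpen_basicOpen 𝒜 _ (SetLike.mul_mem_graded (hf j) (hf l)) (Nat.succ_pos 1)
      refine H29Blow.exists_pow_smul_eq_zero F hF haff2 _ _ ?_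
      let O := (Proj 𝒜).basicOpen ((Proj 𝒜).presheaf.map (homOfLE (inf_le_right :
          Proj.basicOpen 𝒜 (f j) ⊓ Proj.basicOpen 𝒜 (f l) ≤ _)).op (ratio 𝒜 (hf l) hg))
      have hOl : O ≤ (Proj 𝒜).basicOpen (ratio 𝒜 (hf l) hg) := by
        simp only [O]; rw [Scheme.basicOpen_res]; exact inf_le_right
      have hOinf : O ≤ Proj.basicOpen 𝒜 (f j) ⊓ Proj.basicOpen 𝒜 (f l) := (Proj 𝒜).basicOpen_le _
      have hOj : O ≤ (Proj 𝒜).basicOpen (ratio 𝒜 (hf j) hg) := fun y hy => by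
        rw [basicOpen_ratio]
        have h2 := hOl hy
        rw [basicOpen_ratio] at h2
        exact mul_notMem 𝒜 (hOinf hy).1 fun hc => h2 (y.asHomogeneousIdeal.toIdeal.mul_mem_left _ hc)
      change F.presheaf.map (homOfLE hOinf).op _ = 0
      rw [map_sub, Scheme.Modules.map_smul, map_pow, H10Coh.mres_mres, H10Coh.mres_mres, H10Coh.rres_rres,
        hs' l hOl, hs' j hOj, smul_smul,
        res_ratio 𝒜 (hf j) (hf l) hg (hOinf.trans inf_le_left) (hOinf.trans inf_le_right), mul_pow, ← pow_mul,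
        sub_self]
    choose K hK using hkill
    let K' := Finset.univ.sup K
    let v : ∀ j, Γ(F, Proj.basicOpen 𝒜 (f j)) := fun j => ratio 𝒜 (hf j) hg ^ K' • s' j
    have hv : IsTwistSec 𝒜 f hf F (e * (K' + N)) v := fun j l => by
      obtain ⟨d, hd⟩ := Nat.exists_eq_add_of_le (Finset.le_sup (f := K) (Finset.mem_univ (j, l)))
      have hd' : K' = K (j, l) + d := hd
      have h := hK (j, l)
      rw [smul_sub, sub_eq_zero] at h
      change F.presheaf.map _ (ratio 𝒜 (hf l) hg ^ K' • s' l) = _ • F.presheaf.map _ (ratio 𝒜 (hf j) hg ^ K' • s' j)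
      rw [Scheme.Modules.map_smul, Scheme.Modules.map_smul, map_pow, map_pow]
      have h2 := congrArg (fun z => (Proj 𝒜).presheaf.map (homOfLE (inf_le_right :
          Proj.basicOpen 𝒜 (f j) ⊓ Proj.basicOpen 𝒜 (f l) ≤ _)).op (ratio 𝒜 (hf l) hg) ^ d • z) h
      simp only [smul_smul, ← pow_add, ← mul_assoc] at h2
      rw [add_comm d, ← hd'] at h2
      rw [h2, smul_smul,
        res_ratio 𝒜 (hf j) (hf l) hg inf_le_left inf_le_right, mul_pow, ← pow_mul]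
      congr 1
      rw [mul_add, pow_add]
      ring
    let m := ofTwistSec 𝒜 f hf F v hv
    let a := g ^ (K' + N)
    have ha : a ∈ 𝒜 (e * (K' + N)) := by rw [mul_comm]; exact SetLike.pow_mem_graded _ hg
    let V := Proj.basicOpen 𝒜 g
    have hVi : V ≤ Proj.basicOpen 𝒜 (f i) := fun y hy => (hgW y hy).2
    refine ⟨V, fun y hy => (hgW y hy).1, hgx,
      secOf 𝒜 𝕄 (ofTwistSec_mem 𝒜 f hf F v hv) ha (V := V) (fun y hy => pow_notMem 𝒜 hy _) (by simp), ?_⟩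
    refine good_unique (hφ V _) fun y hy => ⟨V, le_rfl, hy, i, e * (K' + N), a, ha, m,
      ofTwistSec_mem 𝒜 f hf F v hv, hVi, fun z hz => pow_notMem 𝒜 hz _, fun z => rfl, ?_⟩
    rw [cf_ofTwistSec, H10Coh.mres_mres]
    change _ = F.presheaf.map _ (ratio 𝒜 (hf i) hg ^ K' • s' i)
    have hVb : V ≤ (Proj 𝒜).basicOpen (ratio 𝒜 (hf i) hg) := by
      rw [basicOpen_ratio]
      exact fun y hy => mul_notMem 𝒜 (hVi hy) hy
    rw [Scheme.Modules.map_smul, hs' i hVb, map_pow, smul_smul, ← pow_add]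
    congr 1
    refine fval_ext 𝒜 fun z => ?_
    rw [fval_map, fval_pow, fval_map, fval_ratio, fval_ratio, Localization.mk_pow]
    exact Localization.mk_eq_mk_iff.2 (Localization.r_iff_exists.2 ⟨1, by simp [a, ← pow_mul]⟩)
  have : IsIso φ := isIso_of_mono_of_epi φ
  exact ⟨asIso φ⟩

end Groth.Agent.H11Tilde
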