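import Groth.Agent.H11Tilde.GammaStar.Iso

/-!
# Changing the type of the grading pieces
-/

set_option autoImplicit false

noncomputable section

universe u

open CategoryTheory AlgebraicGeometry TopologicalSpace Opposite

namespace Groth.Agent.H11Tilde

variable {A σA : Type u} [CommRing A] [SetLike σA A] [AddSubgroupClass σA A] (𝒜 : ℕ → σA) [GradedRing 𝒜]
variable {M τ τ' : Type u} [AddCommGroup M] [Module A M] [SetLike τ M] [AddSubgroupClass τ M] [SetLike τ' M]
  [AddSubgroupClass τ' M] (ℳ : ℕ → τ) (ℳ' : ℕ → τ') [SetLike.GradedSMul 𝒜 ℳ] [SetLike.GradedSMul 𝒜 ℳ']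

/-- Two gradings with the same pieces give the same sheaf. -/
def tildeIsoOfPiecesEq (h : ∀ i x, x ∈ ℳ i ↔ x ∈ ℳ' i) (n : ℤ) : GrMod.tilde 𝒜 ℳ n ≅ GrMod.tilde 𝒜 ℳ' n where
  hom := GrMod.map 𝒜 (LinearMap.id : M →ₗ[A] M) (fun i x => (h i x).1) n
  inv := GrMod.map 𝒜 (LinearMap.id : M →ₗ[A] M) (fun i x => (h i x).2) n
  hom_inv_id := by
    refine Scheme.Modules.hom_ext _ _ fun U => ?_
    ext s
    refine sval_ext 𝒜 ℳ fun x => ?_
    change GrMod.locMap LinearMap.id x.1 (GrMod.locMap LinearMap.id x.1 (sval 𝒜 ℳ s x)) = sval 𝒜 ℳ s x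
    generalize sval 𝒜 ℳ s x = q
    induction q using LocalizedModule.induction_on with
    | h m c => rw [GrMod.locMap_mk, GrMod.locMap_mk]; rfl
  inv_hom_id := by
    refine Scheme.Modules.hom_ext _ _ fun U => ?_
    ext s
    refine sval_ext 𝒜 ℳ' fun x => ?_
    change GrMod.locMap LinearMap.id x.1 (GrMod.locMap LinearMap.id x.1 (sval 𝒜 ℳ' s x)) = sval 𝒜 ℳ' s x
    generalize sval 𝒜 ℳ' s x = q
    induction q using LocalizedModule.induction_on with
    | h m c => rw [GrMod.locMap_mk, GrMod.locMap_mk]; rfl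

end Groth.Agent.H11Tilde
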